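import Cfsg.Agent.H123.Cls.ListCover

/-!
# Exact class sizes from a covering certificate (helper257, for S4842)

In the situation of `H123.Cls.cover_D` the class sizes are exact; hence lower bounds of the centralizers.
-/

set_option autoImplicit false

namespace Cfsg.Agent.H257.OZ

open Equiv Cfsg.Agent.Lib.BitNet Cfsg.Agent.H123.Cls

section

variable {n : ℕ}

/-- the class -/
def cls (A : Subgroup (Perm (Fin n))) (r : Perm (Fin n)) : Set (Perm (Fin n)) := {x | ∃ a ∈ A, x = a * r * a⁻¹}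

/-- orbit-stabilizer -/
theorem card_eq_mul (A : Subgroup (Perm (Fin n))) (r : Perm (Fin n)) :
    Nat.card A = Nat.card ↥(A ⊓ Subgroup.centralizer {r}) * (cls A r).ncard := by
  let C : Subgroup A := (A ⊓ Subgroup.centralizer {r}).subgroupOf A
  have e1 : Nat.card C = Nat.card ↥(A ⊓ Subgroup.centralizer {r}) :=
    Nat.card_congr (Subgroup.subgroupOfEquivOfLe inf_le_left).toEquiv
  have e2 : Nat.card (A ⧸ C) = (cls A r).ncard := by
    rw [← Nat.card_coe_set_eq]
    refine Nat.card_congr (Equiv.ofBijective (fun q : A ⧸ C => Quotient.liftOn' q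
      (fun a => (⟨(a : Perm (Fin n)) * r * (a : Perm (Fin n))⁻¹, a, a.2, rfl⟩ : cls A r)) ?_) ⟨?_, ?_⟩)
    · intro a b hab
      rw [QuotientGroup.leftRel_apply] at hab
      have h2 := (Subgroup.mem_inf.1 (Subgroup.mem_subgroupOf.1 hab)).2
      rw [Subgroup.mem_centralizer_singleton_iff] at h2
      apply Subtype.ext
      change ((a : Perm (Fin n))⁻¹ * b) * r = r * ((a : Perm (Fin n))⁻¹ * b) at h2
      change (a : Perm (Fin n)) * r * (a : Perm (Fin n))⁻¹ = b * r * (b : Perm (Fin n))⁻¹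
      calc (a : Perm (Fin n)) * r * (a : Perm (Fin n))⁻¹ =
          a * (r * ((a : Perm (Fin n))⁻¹ * b)) * (b : Perm (Fin n))⁻¹ := by group
        _ = a * ((a : Perm (Fin n))⁻¹ * b * r) * (b : Perm (Fin n))⁻¹ := by rw [h2]
        _ = b * r * (b : Perm (Fin n))⁻¹ := by group
    · intro q q' h
      induction q using Quotient.inductionOn' with
      | h a =>
        induction q' using Quotient.inductionOn' with
        | h b =>
          have h2 : (a : Perm (Fin n)) * r * (a : Perm (Fin n))⁻¹ = b * r * (b : Perm (Fin n))⁻¹ :=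
            congrArg Subtype.val h
          refine Quotient.sound' ?_
          rw [QuotientGroup.leftRel_apply]
          refine Subgroup.mem_subgroupOf.2 (Subgroup.mem_inf.2 ⟨(a⁻¹ * b).2, ?_⟩)
          rw [Subgroup.mem_centralizer_singleton_iff]
          change ((a : Perm (Fin n))⁻¹ * b) * r = r * ((a : Perm (Fin n))⁻¹ * b)
          calc ((a : Perm (Fin n))⁻¹ * b) * r =
              (a : Perm (Fin n))⁻¹ * (b * r * (b : Perm (Fin n))⁻¹) * b := by group
            _ = (a : Perm (Fin n))⁻¹ * (a * r * (a : Perm (Fin n))⁻¹) * b := by rw [h2]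
            _ = r * ((a : Perm (Fin n))⁻¹ * b) := by group
    · rintro ⟨x, a, ha, rfl⟩
      exact ⟨Quotient.mk'' ⟨a, ha⟩, rfl⟩
  rw [← e1, ← e2, mul_comm]
  exact Subgroup.card_eq_card_quotient_mul_card_subgroup C

theorem cls_conj {A : Subgroup (Perm (Fin n))} {r a : Perm (Fin n)} (ha : a ∈ A) : cls A (a * r * a⁻¹) = cls A r := by
  ext x
  constructor
  · rintro ⟨b, hb, rfl⟩
    exact ⟨b * a, A.mul_mem hb ha, by group⟩
  · rintro ⟨b, hb, rfl⟩
    exact ⟨b * a⁻¹, A.mul_mem hb (A.inv_mem ha), by group⟩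

/-- **The classes cover the group and their sizes are exact.** -/
theorem exact_sizes {A N : Subgroup (Perm (Fin n))} (hnA : ∀ a ∈ A, ∀ x ∈ N, a * x * a⁻¹ ∈ N) {ι : Type} [Fintype ι]
    (r : ι → Perm (Fin n)) (hr : ∀ i, r i ∈ N) (c q : ι → ℕ)
    (hc : ∀ i, Nat.card ↥(A ⊓ Subgroup.centralizer {r i}) ≤ c i)
    (hne : ∀ i j, i ≠ j → ∀ a ∈ A, a * r i * a⁻¹ ≠ r j) (hq : ∀ i, q i ≤ Nat.card A / c i)
    (hsum : Nat.card N ≤ ∑ i, q i) :
    (∀ g ∈ N, ∃ i, ∃ a ∈ A, g = a * r i * a⁻¹) ∧ ∀ i, (cls A (r i)).ncard = q i := by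
  classical
  have hcl : ∀ i, q i ≤ (cls A (r i)).ncard := by
    intro i
    have h0 : 0 < Nat.card ↥(A ⊓ Subgroup.centralizer {r i}) := Nat.card_pos
    calc q i ≤ Nat.card A / c i := hq i
      _ ≤ Nat.card A / Nat.card ↥(A ⊓ Subgroup.centralizer {r i}) := Nat.div_le_div_left (hc i) h0
      _ = (cls A (r i)).ncard := by
        conv_lhs => rw [card_eq_mul A (r i)]
        rw [Nat.mul_div_cancel_left _ h0]
  have hdis : Set.PairwiseDisjoint (Set.univ : Set ι) (fun i => cls A (r i)) := by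
    intro i _ j _ hij
    rw [Function.onFun, Set.disjoint_left]
    rintro x ⟨a, ha, rfl⟩ ⟨b, hb, h⟩
    refine hne i j hij (b⁻¹ * a) (A.mul_mem (A.inv_mem hb) ha) ?_
    calc b⁻¹ * a * r i * (b⁻¹ * a)⁻¹ = b⁻¹ * (a * r i * a⁻¹) * b := by group
      _ = r j := by rw [h]; group
  have hun : (⋃ i, cls A (r i)) ⊆ (N : Set (Perm (Fin n))) := by
    intro x hx
    obtain ⟨i, a, ha, rfl⟩ := Set.mem_iUnion.1 hx
    exact hnA a ha _ (hr i)
  have hcard : (⋃ i, cls A (r i)).ncard = ∑ i, (cls A (r i)).ncard := by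
    have h := Set.ncard_iUnion_of_finite (s := fun i => cls A (r i)) (fun i => Set.toFinite _)
      (fun i j hij => hdis (Set.mem_univ i) (Set.mem_univ j) hij)
    rw [h, finsum_eq_sum_of_fintype]
  have hNc : (N : Set (Perm (Fin n))).ncard = Nat.card N := rfl
  have hle : ∑ i, (cls A (r i)).ncard ≤ Nat.card N := by
    rw [← hcard, ← hNc]
    exact Set.ncard_le_ncard hun (Set.toFinite _)
  have hsum2 : ∑ i, q i ≤ ∑ i, (cls A (r i)).ncard := Finset.sum_le_sum fun i _ => hcl i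
  refine ⟨?_, fun i => ?_⟩
  · have heq : (⋃ i, cls A (r i)) = (N : Set (Perm (Fin n))) := by
      refine Set.eq_of_subset_of_ncard_le hun ?_ (Set.toFinite _)
      rw [hNc, hcard]
      exact hsum.trans hsum2
    intro g hg
    have h1 : g ∈ (⋃ i, cls A (r i)) := by rw [heq]; exact hg
    obtain ⟨i, a, ha, h⟩ := Set.mem_iUnion.1 h1
    exact ⟨i, a, ha, h⟩
  · have h := (Finset.sum_eq_sum_iff_of_le fun i _ => hcl i).1 (by omega) i (Finset.mem_univ i)
    exact h.symm

/-- The class of an element of `N` is contained in the class under `A`. -/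
theorem card_le_mul {A N : Subgroup (Perm (Fin n))} (hNA : N ≤ A) {g r : Perm (Fin n)} (h : ∃ a ∈ A, g = a * r * a⁻¹) :
    Nat.card N ≤ (cls A r).ncard * Nat.card ↥(N ⊓ Subgroup.centralizer {g}) := by
  obtain ⟨a, ha, rfl⟩ := h
  have h1 := card_eq_mul N (a * r * a⁻¹)
  rw [← cls_conj ha, mul_comm, h1]
  refine Nat.mul_le_mul_left _ (Set.ncard_le_ncard ?_ (Set.toFinite _))
  rintro x ⟨b, hb, rfl⟩
  exact ⟨b, hNA hb, rfl⟩

/-- **List version.** Every element of `N` is conjugate under `A` to one of the permutations of the list, and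
`|N| ≤ (a / bound) |C_N(g)|`. -/
theorem exact_D {K w : ℕ} {row : ℕ → ℕ} {A N : Subgroup (Perm (Fin n))} (hn : n ≤ 2 ^ K) (hA : A ≤ Aut n row)
    (hNA : N ≤ A) (hnA : ∀ a ∈ A, ∀ x ∈ N, a * x * a⁻¹ ∈ N) {a : ℕ} (haA : a ≤ Nat.card A) (D : List (ℕ × ℕ × List ℕ))
    (hr : ∀ x ∈ D, ∃ g ∈ N, ∀ p : Fin n, (g p : ℕ) = lk w x.1 p)
    (hc : ∀ x ∈ D, ∃ l L, chkB n K row w x.1 l L x.2.1 = true)
    (key : List (Bool × ℕ)) (hs : ∀ x ∈ D, chkSig n K row w x.1 key x.2.2 = true)
    (hl : ∀ x ∈ D, x.2.2.length = key.length) (hnd : (D.map fun x => x.2.2).Nodup)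
    (hsum : Nat.card N ≤ (D.map fun x => a / (x.2.1 + 1)).sum) :
    (∀ g ∈ N, ∃ x ∈ D, ∃ r ∈ N, (∀ p : Fin n, (r p : ℕ) = lk w x.1 p) ∧ (∃ b ∈ A, g = b * r * b⁻¹) ∧
      Nat.card N ≤ a / (x.2.1 + 1) * Nat.card ↥(N ⊓ Subgroup.centralizer {g})) ∧
    ∀ x ∈ D, ∀ r ∈ N, (∀ p : Fin n, (r p : ℕ) = lk w x.1 p) →
      Nat.card N ≤ a / (x.2.1 + 1) * Nat.card ↥(N ⊓ Subgroup.centralizer {r}) := by
  have hmem : ∀ i : Fin D.length, D[i.1] ∈ D := fun i => List.getElem_mem i.2
  have hinj : Function.Injective (fun i : Fin D.length => (D[i.1]).2.2) := by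
    intro i j hij
    have h1 := (List.nodup_iff_injective_get.1 hnd)
    have h2 : (⟨i.1, by rw [List.length_map]; exact i.2⟩ : Fin (D.map fun x => x.2.2).length) =
        ⟨j.1, by rw [List.length_map]; exact j.2⟩ := by
      apply h1
      simpa using hij
    have h3 := congrArg Fin.val h2
    exact Fin.ext h3
  have hsum' : Nat.card N ≤ ∑ i : Fin D.length, a / ((D[i.1]).2.1 + 1) := by
    rw [Fin.sum_univ_fun_getElem D (fun x => a / (x.2.1 + 1))]
    exact hsum
  choose r hrN hrp using fun i : Fin D.length => hr _ (hmem i)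
  have h12 := exact_sizes hnA r hrN (fun i : Fin D.length => (D[i.1]).2.1 + 1)
    (fun i : Fin D.length => a / ((D[i.1]).2.1 + 1)) ?_ ?_ ?_ hsum'
  · obtain ⟨h1, h2⟩ := h12
    refine ⟨fun g hg => ?_, fun x hx r' hr' hrp' => ?_⟩
    · obtain ⟨i, b, hb, h3⟩ := h1 g hg
      refine ⟨D[i.1], hmem i, r i, hrN i, hrp i, ⟨b, hb, h3⟩, ?_⟩
      rw [← h2 i]
      exact card_le_mul hNA ⟨b, hb, h3⟩
    · obtain ⟨k, hk, hkx⟩ := List.getElem_of_mem hx
      have e : r' = r ⟨k, hk⟩ := perm_eq_of_tab hrp' (by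
        intro p
        rw [hrp ⟨k, hk⟩ p]
        exact congrArg (fun z => lk w z p) (congrArg Prod.fst hkx))
      have h3 := h2 ⟨k, hk⟩
      have h4 : a / (x.2.1 + 1) = (cls A (r ⟨k, hk⟩)).ncard := by
        rw [h3]
        exact (congrArg (fun z : ℕ × ℕ × List ℕ => a / (z.2.1 + 1)) hkx).symm
      rw [h4, e]
      exact card_le_mul hNA ⟨1, A.one_mem, by group⟩
  · intro i
    obtain ⟨l, L, h1⟩ := hc _ (hmem i)
    refine card_le_bound hn (hrp i) h1 (inf_le_left.trans hA) fun σ hσ p => ?_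
    have h2 := Subgroup.mem_centralizer_singleton_iff.1 (Subgroup.mem_inf.1 hσ).2
    exact congrArg (fun τ : Perm (Fin n) => τ p) h2
  · intro i j hij b hb h1
    apply hij
    apply hinj
    show (D[i.1]).2.2 = (D[j.1]).2.2
    rw [← sig_of_chk hn (hrp i) (hs _ (hmem i)) (hl _ (hmem i)), ← sig_of_chk hn (hrp j) (hs _ (hmem j)) (hl _ (hmem j))]
    refine List.map_congr_left fun k _ => ?_
    rw [← h1, pwc_conj (hA hb)]
  · exact fun i => Nat.div_le_div_right haA

end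

end Cfsg.Agent.H257.OZ
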