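import Mathlib

/-!
# Rational elements of order 8, elements of order 9 (helper257, S4842)
-/

set_option autoImplicit false

namespace Cfsg.Agent.H257.OZ

universe u

variable {G : Type u} [Group G]

theorem isConj_pow' {a b : G} (h : IsConj a b) (m : ℕ) : IsConj (a ^ m) (b ^ m) := by
  obtain ⟨c, rfl⟩ := isConj_iff.1 h
  exact isConj_iff.2 ⟨c, conj_pow.symm⟩

theorem pow_eq_of_mod {y : G} {n : ℕ} (hy : orderOf y = n) {m k : ℕ} (h : m % n = k % n) : y ^ m = y ^ k := by
  rw [← pow_mod_orderOf y m, ← pow_mod_orderOf y k, hy, h]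

/-- An element of order 8 conjugate to its third and its fifth power is rational. -/
theorem rat_eight {y : G} (hy : orderOf y = 8) (h3 : IsConj y (y ^ 3)) (h5 : IsConj y (y ^ 5))
    (h2 : 2 ∣ Nat.card G) (m : ℕ) (hm : m.Coprime (Nat.card G)) : IsConj (y ^ m) y := by
  have hodd : m % 2 = 1 := by
    by_contra h
    have h1 : 2 ∣ m := by omega
    exact Nat.prime_two.one_lt.ne' (Nat.dvd_one.1 (hm ▸ Nat.dvd_gcd h1 h2))
  have h7 : IsConj y (y ^ 7) := by
    have h := h3.trans (isConj_pow' h5 3)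
    rwa [← pow_mul, pow_eq_of_mod hy (m := 5 * 3) (k := 7) rfl] at h
  have hcase : m % 8 = 1 % 8 ∨ m % 8 = 3 % 8 ∨ m % 8 = 5 % 8 ∨ m % 8 = 7 % 8 := by omega
  rcases hcase with h | h | h | h
  · rw [pow_eq_of_mod hy h, pow_one]
  · rw [pow_eq_of_mod hy h]; exact h3.symm
  · rw [pow_eq_of_mod hy h]; exact h5.symm
  · rw [pow_eq_of_mod hy h]; exact h7.symm

/-- An element of order 9 conjugate to its fourth power. -/
theorem orb_nine {y : G} (hy : orderOf y = 9) (h4 : IsConj y (y ^ 4)) (h3 : 3 ∣ Nat.card G) {k : ℕ}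
    (hk : k % 9 = 8) (m : ℕ) (hm : m.Coprime (Nat.card G)) : IsConj (y ^ m) y ∨ IsConj (y ^ m) (y ^ k) := by
  have h3m : m % 3 ≠ 0 := by
    intro h
    have h1 : 3 ∣ m := Nat.dvd_of_mod_eq_zero h
    exact Nat.prime_three.one_lt.ne' (Nat.dvd_one.1 (hm ▸ Nat.dvd_gcd h1 h3))
  have h7 : IsConj y (y ^ 7) := by
    have h := h4.trans (isConj_pow' h4 4)
    rwa [← pow_mul, pow_eq_of_mod hy (m := 4 * 4) (k := 7) rfl] at h
  have h5 : IsConj (y ^ k) (y ^ 5) := by
    have h := isConj_pow' h4 k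
    rwa [← pow_mul, pow_eq_of_mod hy (m := 4 * k) (k := 5) (by omega)] at h
  have h2 : IsConj (y ^ k) (y ^ 2) := by
    have h := isConj_pow' h7 k
    rwa [← pow_mul, pow_eq_of_mod hy (m := 7 * k) (k := 2) (by omega)] at h
  have hcase : m % 9 = 1 % 9 ∨ m % 9 = 4 % 9 ∨ m % 9 = 7 % 9 ∨ m % 9 = 2 % 9 ∨ m % 9 = 5 % 9 ∨ m % 9 = k % 9 := by
    omega
  rcases hcase with h | h | h | h | h | h
  · left; rw [pow_eq_of_mod hy h, pow_one]
  · left; rw [pow_eq_of_mod hy h]; exact h4.symm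
  · left; rw [pow_eq_of_mod hy h]; exact h7.symm
  · right; rw [pow_eq_of_mod hy h]; exact h2.symm
  · right; rw [pow_eq_of_mod hy h]; exact h5.symm
  · right; rw [pow_eq_of_mod hy h]

/-- Conjugation from a commutation relation. -/
theorem isConj_of_rel {g y z : G} (h : g * y = z * g) : IsConj y z := by
  refine isConj_iff.2 ⟨g, ?_⟩
  rw [h]; group

/-- A proper subgroup of a group of order at most `2 m` has order at most `m`. -/
theorem card_le_half {C H : Subgroup G} (hHC : H ≤ C) {a : G} (ha : a ∈ C) (ha' : a ∉ H) {m : ℕ}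
    (hC : Nat.card C ≤ 2 * m) (hfin : Finite C) : Nat.card H ≤ m := by
  have h1 := Subgroup.card_dvd_of_le hHC
  obtain ⟨k, hk⟩ := h1
  have hpos : 0 < Nat.card C := Nat.card_pos
  have hk0 : k ≠ 0 := by
    rintro rfl
    omega
  have hk1 : k ≠ 1 := by
    rintro rfl
    rw [mul_one] at hk
    have : Finite H := Finite.of_injective _ (Subgroup.inclusion_injective hHC)
    have h2 : H = C := Subgroup.eq_of_le_of_card_ge hHC (by rw [hk])
    exact ha' (h2 ▸ ha)
  have h2 : Nat.card H * 2 ≤ Nat.card H * k := Nat.mul_le_mul_left _ (by omega)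
  omega

end Cfsg.Agent.H257.OZ
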