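import Cfsg.Agent.H257.OZ.McLData
import Cfsg.Agent.H257.OZ.Rat
import Cfsg.Agent.H904.McLCent
import Cfsg.Agent.S2132

/-!
# Elements of order 8 and 9 of the McLaughlin group (helper257, S4842)

* `exists_eight` : a rational element of order 8 with `|C| ≤ 8`;
* `exists_nine`  : an element `y` of order 9 with `|C| ≤ 27`, conjugate to `y ^ 4`.
-/

set_option autoImplicit false

namespace Cfsg.Agent.H257.OZ.McLF

open Cfsg.Agent.SporadicA.PermTab Cfsg.Agent.McLType.X275 Cfsg.Agent.McLType.Gens Cfsg.Agent.H904.CentChk Subgroup Equiv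
open Cfsg.Agent.SporadicStructure.PermChain (look)
open Cfsg.Agent.H904.McLCent Cfsg.Agent.H257.OZ.McLD

universe u

theorem mem_e7 {P : ℕ} (h : P = e_a ∨ P = e_b ∨ P = e_c ∨ P = e_x ∨ P = e_y ∨ P = e_w ∨ P = e_g) : P ∈ e7 := by
  simp only [e7, List.mem_cons, List.not_mem_nil, or_false]
  exact h

theorem in8 : InG K0 t8 := InG.word (L := [e_b, e_c, e_a]) (fun P hP => inAll P (by
  simp only [List.mem_cons, List.not_mem_nil, or_false] at hP
  exact mem_e7 (by tauto))) (by decide +kernel)

theorem in9 : InG K0 t9 := InG.word (L := [e_g, e_x, e_g, e_c, e_w]) (fun P hP => inAll P (by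
  simp only [List.mem_cons, List.not_mem_nil, or_false] at hP
  exact mem_e7 (by tauto))) (by decide +kernel)

theorem in5 : InG K0 t5 := InG.word (L := [e_a, e_b, e_a, e_c, e_b, e_c]) (fun P hP => inAll P (by
  simp only [List.mem_cons, List.not_mem_nil, or_false] at hP
  exact mem_e7 (by tauto))) (by decide +kernel)

theorem in94 : InG K0 t94 := InG.word (L := [e_b, e_c, e_w, e_g, e_a, e_x, e_a, e_g, e_c]) (fun P hP => inAll P (by
  simp only [List.mem_cons, List.not_mem_nil, or_false] at hP
  exact mem_e7 (by tauto))) (by decide +kernel)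

theorem inA : InG K0 e_a := inAll _ (mem_e7 (by tauto))
theorem inB : InG K0 e_b := inAll _ (mem_e7 (by tauto))

/-- the outer automorphism -/
theorem chkA : chkInv 275 ta ta = true := by decide +kernel
theorem rowsA : chkAutBlk 275 adjM ta 0 275 = true := by decide +kernel

noncomputable def σa : Perm (Fin 275) := mkPerm ta ta chkA

theorem σa_val (i : Fin 275) : (σa i : ℕ) = lk ta i := mkPerm_val ta ta chkA i

theorem σa_mem : σa ∈ autG 275 adjM :=
  mem_autG_of_rowsOK σa_val (rowsOK_of_chk (chkInv_lt chkA) (chkInv_inj chkA) rowsA)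

variable {L : Type u} [Group L] {θ : L →* Perm (Fin 275)}

/-- a relation `g y = y ^ k g` from the tables -/
theorem rel_of (R : Rep L θ) {g y : L} {tg ty : ℕ} (hg : ∀ i : Fin 275, ((θ g i : Fin 275) : ℕ) = lk tg i)
    (hy : ∀ i : Fin 275, ((θ y i : Fin 275) : ℕ) = lk ty i) (k : ℕ)
    (h : allB (fun i => Nat.beq (lk tg (lk ty i)) ((lk ty)^[k] (lk tg i))) 275 = true) : g * y = y ^ k * g := by
  apply R.inj
  rw [map_mul, map_mul, map_pow]
  refine Equiv.ext fun i => Fin.ext ?_
  rw [Perm.mul_apply, Perm.mul_apply, hg, hy, pow_val hy, hg]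
  exact Nat.eq_of_beq_eq_true ((allB_iff _ _).1 h i i.2)

theorem order_of (R : Rep L θ) {y : L} {ty : ℕ} (hy : ∀ i : Fin 275, ((θ y i : Fin 275) : ℕ) = lk ty i) {p n : ℕ}
    (hp : p.Prime) (h1 : allB (fun i => Nat.beq ((lk ty)^[p ^ (n + 1)] i) i) 275 = true) (j : Fin 275)
    (h2 : (lk ty)^[p ^ n] j ≠ j) : orderOf y = p ^ (n + 1) := by
  have := Fact.mk hp
  apply orderOf_eq_prime_pow
  · intro h
    apply h2
    rw [← pow_val hy, ← map_pow, h, map_one, Perm.one_apply]
  · apply R.inj
    rw [map_pow, map_one]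
    refine Equiv.ext fun i => Fin.ext ?_
    rw [pow_val hy, Perm.one_apply]
    exact Nat.eq_of_beq_eq_true ((allB_iff _ _).1 h1 i i.2)

/-- the system for the full automorphism group of the graph -/
theorem sysA {x : autG 275 adjM} {t : ℕ} (h : ∀ i : Fin 275, (((x : Perm (Fin 275)) i : Fin 275) : ℕ) = lk t i) :
    Sys (autG 275 adjM).subtype (bitM 275 adjM) x (lk t) where
  inj := (autG 275 adjM).subtype_injective
  rel g i j := g.2 i j
  tab := h

theorem e8a : ((List.range 275).filter fun b' => Nat.beq (code (bitM 275 adjM) (lk t8) [] 8 b')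
    (code (bitM 275 adjM) (lk t8) [] 8 4)).length ≤ 16 := by decide +kernel

theorem e8e : (List.range 275).map (code (bitM 275 adjM) (lk t8) (cyc (lk t8) 8 4 ++ cyc (lk t8) 8 23 ++ cyc (lk t8) 8 2) 8)
    = c8 := by decide +kernel

theorem e8f : c8.Nodup := nodup_of_nodupB (by decide +kernel)

/-- the centralizer in the full automorphism group -/
theorem cent_aut {x : autG 275 adjM} (h : ∀ i : Fin 275, (((x : Perm (Fin 275)) i : Fin 275) : ℕ) = lk t8 i) :
    Nat.card (centralizer ({x} : Set (autG 275 adjM))) ≤ 16 := by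
  have S := sysA h
  refine (S.card_cent_le (code (bitM 275 adjM) (lk t8) [] 8)
    (fun g hg i => S.code_eq hg (F := []) (fun i hi => absurd hi (by simp)) (by simp) 8 i) 4 (m := 16) e8a ?_).2
  intro g hg h0
  have f0 : Fix (autG 275 adjM).subtype g (cyc (lk t8) 8 4) := S.fix_cyc hg 8 4 (by norm_num) h0
  have u1 := S.fix_of_unique hg f0 (by decide +kernel) 8 23 (by norm_num) (by decide +kernel)
  have f1 := f0.append (S.fix_cyc hg 8 23 (by norm_num) u1)
  have u2 := S.fix_of_unique hg f1 (by decide +kernel) 8 2 (by norm_num) (by decide +kernel)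
  have f2 := f1.append (S.fix_cyc hg 8 2 (by norm_num) u2)
  exact S.eq_one hg f2 (by decide +kernel) 8 (lit := c8) e8e e8f

/-- the number of fixed points -/
def nfix (t : ℕ) : ℕ := ((List.range 275).filter fun i => Nat.beq (lk t i) i).length

theorem card_fix {σ : Perm (Fin 275)} {t : ℕ} (h : ∀ i : Fin 275, (σ i : ℕ) = lk t i) :
    (Finset.univ.filter fun i : Fin 275 => σ i = i).card = nfix t := by
  have e : (Finset.univ.filter fun i : Fin 275 => σ i = i).map Fin.valEmbedding =
      ((List.range 275).filter fun i => Nat.beq (lk t i) i).toFinset := by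
    ext k
    simp only [Finset.mem_map, Finset.mem_filter, Finset.mem_univ, true_and, Fin.valEmbedding_apply,
      List.mem_toFinset, List.mem_filter, List.mem_range, Nat.beq_eq]
    constructor
    · rintro ⟨i, hi, rfl⟩
      refine ⟨i.2, ?_⟩
      rw [← h, hi]
    · rintro ⟨hk, hk'⟩
      refine ⟨⟨k, hk⟩, Fin.ext ?_, rfl⟩
      rw [h]
      exact hk'
  have h2 := congrArg Finset.card e
  rw [Finset.card_map, List.toFinset_card_of_nodup (List.Nodup.filter _ List.nodup_range)] at h2
  exact h2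

theorem fix_conj {σ τ : Perm (Fin 275)} (h : IsConj σ τ) :
    (Finset.univ.filter fun i : Fin 275 => σ i = i).card = (Finset.univ.filter fun i : Fin 275 => τ i = i).card := by
  obtain ⟨c, rfl⟩ := isConj_iff.1 h
  refine Finset.card_bij (fun i _ => c i) ?_ (fun i _ j _ hij => c.injective hij) ?_
  · intro i hi
    rw [Finset.mem_filter] at hi ⊢
    refine ⟨Finset.mem_univ _, ?_⟩
    rw [Perm.mul_apply, Perm.mul_apply, show c⁻¹ (c i) = i from Equiv.symm_apply_apply c i, hi.2]
  · intro j hj
    rw [Finset.mem_filter, Perm.mul_apply, Perm.mul_apply] at hj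
    have e : c (c⁻¹ j) = j := Equiv.apply_symm_apply c j
    refine ⟨c⁻¹ j, ?_, e⟩
    rw [Finset.mem_filter]
    refine ⟨Finset.mem_univ _, ?_⟩
    apply c.injective
    rw [hj.2, e]

/-- all involutions are conjugate -/
theorem invol {L : Type u} [Group L] (h : Cfsg.Spor.IsoMcL L) {x y : L} (hx : orderOf x = 2) (hy : orderOf y = 2) :
    IsConj x y := by
  obtain ⟨e⟩ := h
  have h1 := S2132.result.1 (e x) (e y) (by rw [MulEquiv.orderOf_eq, hx]) (by rw [MulEquiv.orderOf_eq, hy])
  obtain ⟨c, hc⟩ := isConj_iff.1 h1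
  refine isConj_iff.2 ⟨e.symm c, ?_⟩
  apply e.injective
  rw [map_mul, map_mul, map_inv, e.apply_symm_apply, hc]

/-- the outer automorphism is not in the image -/
theorem not_mem (h : Cfsg.Spor.IsoMcL L) (R : Rep L θ) (l : L) : θ l ≠ σa := by
  intro hl
  have hv : ∀ i : Fin 275, ((θ l i : Fin 275) : ℕ) = lk ta i := fun i => by rw [hl, σa_val]
  obtain ⟨m, hm⟩ := R.exists_of inA
  have o1 : orderOf l = 2 := R.orderOf_eq hv Nat.prime_two (by decide +kernel) 1 (by decide +kernel)
  have o2 : orderOf m = 2 := R.orderOf_eq hm Nat.prime_two (by decide +kernel) 1 (by decide +kernel)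
  have h1 := fix_conj (θ.map_isConj (invol h o1 o2))
  rw [card_fix hv, card_fix hm] at h1
  exact absurd h1 (by decide +kernel)

/-- **An element of order 8.** -/
theorem exists_eight (h : Cfsg.Spor.IsoMcL L) : ∃ y : L, orderOf y = 8 ∧ Nat.card (centralizer ({y} : Set L)) ≤ 8 ∧
    IsConj y (y ^ 3) ∧ IsConj y (y ^ 5) := by
  obtain ⟨θ, R⟩ := exists_rep h
  obtain ⟨y, hy⟩ := R.exists_of in8
  obtain ⟨g3, hg3⟩ := R.exists_of inB
  obtain ⟨g5, hg5⟩ := R.exists_of in5
  refine ⟨y, ?_, ?_, isConj_of_rel (rel_of R hg3 hy 3 (by decide +kernel)),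
    isConj_of_rel (rel_of R hg5 hy 5 (by decide +kernel))⟩
  · exact order_of R hy Nat.prime_two (n := 2) (by decide +kernel) 1 (by decide +kernel)
  · have hθ : ∀ g : L, θ g ∈ autG 275 adjM := fun g => K0_le (by rw [← R.range]; exact ⟨g, rfl⟩)
    let φ : L →* autG 275 adjM := θ.codRestrict _ hθ
    have hφ : Function.Injective φ := fun a b hab => R.inj (congrArg Subtype.val hab)
    have hy' : ∀ i : Fin 275, (((φ y : autG 275 adjM) : Perm (Fin 275)) i : ℕ) = lk t8 i := hy
    have h1 := cent_aut hy'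
    have hle : (centralizer ({y} : Set L)).map φ ≤ centralizer ({φ y} : Set (autG 275 adjM)) := by
      rintro _ ⟨g, hg, rfl⟩
      have h2 := mem_centralizer_singleton_iff.1 hg
      rw [mem_centralizer_singleton_iff, ← map_mul, h2, map_mul]
    have h3 := card_le_half hle (a := ⟨σa, σa_mem⟩) ?_ ?_ (m := 8) h1 inferInstance
    · rwa [card_map_of_injective hφ] at h3
    · rw [mem_centralizer_singleton_iff]
      refine Subtype.ext (Equiv.ext fun i => Fin.ext ?_)
      change ((σa (θ y i) : Fin 275) : ℕ) = ((θ y (σa i) : Fin 275) : ℕ)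
      rw [σa_val, hy, hy, σa_val]
      exact Nat.eq_of_beq_eq_true ((allB_iff (fun i => Nat.beq (lk ta (lk t8 i)) (lk t8 (lk ta i))) 275).1
        (by decide +kernel) i i.2)
    · rintro ⟨g, -, hg⟩
      exact not_mem h R g (congrArg Subtype.val hg)

/-- the invariant for the element of order `9` -/
def iv9 (v : ℕ) : ℕ := code (bitM 275 adjM) (lk t9) [] 9 v * 4 + (bitM 275 adjM v 0 + bitM 275 adjM v 122)

theorem fix9 : (Finset.univ.filter fun f : Fin 275 => lk t9 f = f) = {0, 122} := by decide +kernel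

theorem e9e : (List.range 275).map (code (bitM 275 adjM) (lk t9) (cyc (lk t9) 9 1 ++ cyc (lk t9) 9 2) 9) = c9 := by
  decide +kernel

theorem e9d : ∀ f ∈ cyc (lk t9) 9 1 ++ cyc (lk t9) 9 2, f < 275 := by decide +kernel

theorem e9f : c9.Nodup := nodup_of_nodupB (by decide +kernel)

/-- **An element of order 9.** -/
theorem exists_nine (h : Cfsg.Spor.IsoMcL L) : ∃ y : L, orderOf y = 9 ∧ Nat.card (centralizer ({y} : Set L)) ≤ 27 ∧
    IsConj y (y ^ 4) := by
  obtain ⟨θ, R⟩ := exists_rep h
  obtain ⟨y, hy⟩ := R.exists_of in9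
  obtain ⟨g, hg⟩ := R.exists_of in94
  refine ⟨y, ?_, ?_, isConj_of_rel (rel_of R hg hy 4 (by decide +kernel))⟩
  · exact order_of R hy Nat.prime_three (n := 1) (by decide +kernel) 1 (by decide +kernel)
  · have S := R.sys hy
    refine (S.card_cent_le iv9 (fun g hg i => ?_) 1 (m := 27) (by decide +kernel) ?_).2
    · have h1 := S.code_eq hg (F := []) (fun i hi => absurd hi (by simp)) (by simp) 9 i
      have h2 := S.fsum_eq hg i
      have h3 : (Finset.univ.filter fun f : Fin 275 => θ y f = f) = {0, 122} := by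
        rw [← fix9]
        apply Finset.filter_congr
        intro f _
        rw [← hy f, Fin.ext_iff]
      rw [h3, Finset.sum_pair (by decide), Finset.sum_pair (by decide)] at h2
      rw [iv9, iv9, h1]
      exact congrArg _ h2
    · intro g hg h0
      have f0 : Fix θ g (cyc (lk t9) 9 1) := S.fix_cyc hg 9 1 (by norm_num) h0
      have u1 := S.fix_of_unique hg f0 (by decide +kernel) 9 2 (by norm_num) (by decide +kernel)
      have f1 := f0.append (S.fix_cyc hg 9 2 (by norm_num) u1)
      exact S.eq_one hg f1 e9d 9 (lit := c9) e9e e9f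

end Cfsg.Agent.H257.OZ.McLF
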