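import Cfsg.Agent.H257.OZ.McLFacts
import Cfsg.Agent.H257.OZ.Rat
import Cfsg.Agent.H672.OZ.Full
import Cfsg.Agent.H730.OZ.Asm
import Cfsg.Agent.H849.OZ.Bad
import Cfsg.Agent.H849.OZ.TFive
import Cfsg.Agent.H733.OZ.Good
import Cfsg.Agent.H153.ZerosMcL

/-!
# One vanishing class: `McL` (helper257, S4842)

The order of the group, the isolated prime 11 and the prime 7 leave the degrees 120, 540, 1728, 2430, 7776, 14400, all
divisible by 6. An element of order 8 (rational, centralizer of order at most 8) must be a zero; an element of order 9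
(centralizer of order at most 27, at most two Galois conjugate classes) then makes the excess too large.
-/

set_option autoImplicit false
set_option maxRecDepth 100000

open Cfsg Cfsg.Agent.Characters Cfsg.Agent.H732.VZ Cfsg.Agent.H604.OZ Cfsg.Agent.H672.OZ Subgroup

namespace Cfsg.Agent.H257.OZ

universe u

theorem cent_zpowers {G : Type*} [Group G] (y : G) :
    centralizer ((zpowers y : Subgroup G) : Set G) = centralizer ({y} : Set G) := by
  rw [zpowers_eq_closure, centralizer_closure]

/-- **`McL`.** -/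
theorem row_mcl {S : Type u} [Group S] [Finite S] (hs : IsSimpleGroup S) (h : Spor.IsoMcL S) : H730.OZ.Row S := by
  classical
  have hN : Nat.card S = 898128000 := H904.McLCent.card_L h
  refine row_of fun χ x hx => ?_
  have h4 : 4 ≤ cent x := four_le_cent hx (by rw [hN]; norm_num) (by rw [hN]; norm_num)
  -- the prime 11
  have h11 := iso_mod hx (p := 11) (by norm_num) (by norm_num) (by rw [hN]; norm_num) (by rw [hN]; norm_num)
    (by rw [hN]; norm_num) (fun y hy => by
      rw [← cent_zpowers]
      exact (H904.McLCent.eleven h _ (by rw [Nat.card_zpowers, hy])).1) h4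
  -- the prime 7
  obtain ⟨w, hw⟩ := H153.Zeros.mcl_orders h 14 (by decide)
  have hz : orderOf (w ^ 2) = 7 := by rw [orderOf_pow, hw]; norm_num
  have hC1 : Nat.card (centralizer ({w ^ 2} : Set S)) ∣ 14 := by
    rw [← cent_zpowers]
    exact (H904.McLCent.seven h _ (by rw [Nat.card_zpowers, hz])).1
  have hC2 : 14 ∣ Nat.card (centralizer ({w ^ 2} : Set S)) := by
    rw [← hw, ← Nat.card_zpowers]
    refine card_dvd_of_le ?_
    rw [zpowers_le, mem_centralizer_singleton_iff]
    exact ((Commute.refl w).pow_right 2)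
  have hC : Nat.card (centralizer ({w ^ 2} : Set S)) = 14 := Nat.dvd_antisymm hC1 hC2
  have hreg : ¬ 7 ∣ orderOf x := by
    rcases Nat.lt_or_ge 7 (cent x) with h7 | h7
    · exact H733.OZ.not_dvd_orderOf hx (r := 7) (n := 1) (by norm_num) (by rw [hN]; norm_num) (by rw [hN]; norm_num)
        (by rw [pow_one]; exact h7)
    · exact H849.OZ.not_dvd_of_le (p := 7) (by norm_num) (by rw [hN]; norm_num) hz (by rw [hC]; norm_num) h7
  have h7 := H849.OZ.mod_of_two (p := 7) (by norm_num) (by norm_num) (by rw [hN]; norm_num) (by rw [hN]; norm_num) hz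
    (by rw [hC]) hx hreg h4
  have hiso : ∀ r ∈ [7, 11], charDegree (χ : S → ℂ) % r = 0 ∨
      charDegree (χ : S → ℂ) % r = 1 ∨ charDegree (χ : S → ℂ) % r = r - 1 := by
    intro r hr
    simp only [List.mem_cons, List.not_mem_nil, or_false] at hr
    rcases hr with rfl | rfl
    · exact Or.inr h7
    · exact h11
  have hm := mem_of_sieve hx hN (l := [(2,7),(3,6),(5,3),(7,1),(11,1)]) (by decide +kernel)
    (by
      intro x hx
      simp only [List.mem_cons, List.not_mem_nil, or_false] at hx
      rcases hx with rfl | rfl | rfl | rfl | rfl <;> norm_num)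
    (by decide +kernel) h4 hiso (D := [1728, 7776, 120, 540, 2430, 14400, 56, 21, 672, 252, 3024, 1134, 560, 210, 6720,
      2520, 945, 175, 5600, 2100, 9450]) (by decide +kernel)
  have h6 : 6 ∣ charDegree (χ : S → ℂ) := by
    have key : ∀ d ∈ [1728, 7776, 120, 540, 2430, 14400, 56, 21, 672, 252, 3024, 1134, 560, 210, 6720,
      2520, 945, 175, 5600, 2100, 9450], (d % 7 = 1 ∨ d % 7 = 7 - 1) → 6 ∣ d := by decide
    exact key _ hm h7
  have h2 : 2 ∣ charDegree (χ : S → ℂ) := (by norm_num : 2 ∣ 6).trans h6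
  have h3 : 3 ∣ charDegree (χ : S → ℂ) := (by norm_num : 3 ∣ 6).trans h6
  -- the element of order 8 is a zero
  obtain ⟨y, hy, hyC, hy3, hy5⟩ := McLF.exists_eight h
  have hr8 := rat_eight hy hy3 hy5 (by rw [hN]; norm_num)
  have hxy : IsConj x y := by
    by_contra hne
    have := H849.OZ.one_prime hx Nat.prime_two h2 ⟨3, by rw [hy]; norm_num⟩ hr8 hne
    have h5 : cent y ≤ 8 := hyC
    omega
  have hc8 : 8 ≤ cent x := by
    rw [cent_eq_of_conj hxy, ← hy, ← Nat.card_zpowers]
    refine card_le_of_le ?_
    rw [zpowers_le, mem_centralizer_singleton_iff]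
  -- the element of order 9
  obtain ⟨z, hz9, hzC, hz4⟩ := McLF.exists_nine h
  have hne : ¬ IsConj x z := fun h1 => by
    have h2 := orderOf_eq_of_conj (hxy.symm.trans h1)
    rw [hy, hz9] at h2
    omega
  have horb := orb_nine hz9 hz4 (by rw [hN]; norm_num) (k := 17) (by norm_num)
  have h5 : cent z ≤ 27 := hzC
  by_cases hzk : IsConj z (z ^ 17)
  · have := H849.OZ.one_prime hx Nat.prime_three h3 ⟨2, by rw [hz9]; norm_num⟩
      (fun m hm => (horb m hm).elim id fun h1 => h1.trans hzk.symm) hne
    omega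
  · have hT := H849.OZ.galOrb_two (k := 17) (by rw [hN]; norm_num) hzk horb
    have h6 := H849.OZ.one_orb hx hT Nat.prime_three h3 ⟨2, by rw [hz9]; norm_num⟩ hne (b := 3) (by norm_num) (by
      rw [Finset.card_pair (by norm_num)]; norm_num)
    rw [Finset.card_pair (by norm_num)] at h6
    have h7 : (cent z : ℝ) ≤ 27 := by exact_mod_cast h5
    have h8 : (8 : ℝ) ≤ cent x := by exact_mod_cast hc8
    norm_num at h6
    linarith

end Cfsg.Agent.H257.OZ
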