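import Cfsg.Agent.H257.OZ.Exact
import Cfsg.Agent.H257.OZ.Rat
import Cfsg.Agent.H123.Cls.SuzOre

/-!
# Facts on `Suz` from the class list (helper257, S4842)

* `eleven_le` : all centralizers have order at least 11;
* `thirteen` : an element of order 13 with centralizer of order 13; `eleven` : the same for 11;
* `eight` : a rational element of order 8, centralizer of order 32.
-/

set_option autoImplicit false
set_option maxRecDepth 1000000
set_option exponentiation.threshold 5000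

namespace Cfsg.Agent.H257.OZ.SuzF

open Cfsg Cfsg.Spor Subgroup Cfsg.Agent.H123.Cls Cfsg.Agent.H123.Cls.SuzDat Cfsg.Agent.Lib.BitNet
open Cfsg.Agent.H763.Ore.SuzModel (A N A_conj card_A card_N N_le_A T_mem_A T_notMem)
open Cfsg.Agent.H763.Ore.SuzTab (A_le_Aut)
open Cfsg.Agent.OddHalf.Table.SuzRep (ψ ψ_val ψ_injective)
open Cfsg.Agent.OddHalf.Table.SuzGraph (T okT)
open Cfsg.Agent.OddHalf.Table.SuzNets (nT)
open Cfsg.Agent.Lib.BitNetSimple (appF appF_eq)
open Cfsg.Agent.SporadicRecognition.SuzOrder (el card_Suz)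
open Equiv (Perm)

theorem fin : Finite Suz := Nat.finite_of_card_ne_zero (by rw [card_Suz]; norm_num)

/-- the class list, exact -/
theorem exact : (∀ g ∈ N, ∃ x ∈ D, ∃ r ∈ N, (∀ p : Fin 1782, (r p : ℕ) = lk 11 x.1 p) ∧
      (∃ b ∈ A, g = b * r * b⁻¹) ∧
      Nat.card N ≤ 2 * 448345497600 / (x.2.1 + 1) * Nat.card ↥(N ⊓ centralizer {g})) ∧
    ∀ x ∈ D, ∀ r ∈ N, (∀ p : Fin 1782, (r p : ℕ) = lk 11 x.1 p) →
      Nat.card N ≤ 2 * 448345497600 / (x.2.1 + 1) * Nat.card ↥(N ⊓ centralizer {r}) :=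
  exact_D (by norm_num) A_le_Aut N_le_A (fun _ ha _ hx => A_conj ha hx) card_A D D_mem D_bd key D_sg D_len
    D_nodup (by rw [card_N]; exact Nat.le_of_ble_eq_true D_sum)

/-- the centralizer in the model -/
theorem card_inf (g : Suz) : Nat.card ↥(N ⊓ centralizer {ψ g}) = Nat.card (centralizer ({g} : Set Suz)) := by
  refine (Nat.card_congr (Equiv.ofBijective (fun z : centralizer ({g} : Set Suz) =>
    (⟨ψ z, mem_inf.2 ⟨⟨z, rfl⟩, ?_⟩⟩ : ↥(N ⊓ centralizer {ψ g}))) ⟨?_, ?_⟩)).symm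
  · rw [mem_centralizer_singleton_iff, ← map_mul, ← map_mul, mem_centralizer_singleton_iff.1 z.2]
  · intro a b hab
    exact Subtype.ext (ψ_injective (congrArg Subtype.val hab))
  · rintro ⟨z, hz⟩
    obtain ⟨⟨y, rfl⟩, h2⟩ := mem_inf.1 hz
    refine ⟨⟨y, ?_⟩, rfl⟩
    rw [mem_centralizer_singleton_iff] at h2 ⊢
    exact ψ_injective (by rw [map_mul, map_mul]; exact h2)

theorem pow_tab {P : ℕ} {r : Perm (Fin 1782)} (h : ∀ p : Fin 1782, (r p : ℕ) = lk 11 P p) :
    ∀ (k : ℕ) (p : Fin 1782), ((r ^ k) p : ℕ) = it 11 P k p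
  | 0, p => by rw [it_zero, pow_zero]; rfl
  | k + 1, p => by rw [it_succ, pow_succ, Equiv.Perm.mul_apply, pow_tab h k (r p), h]

/-- the point `p` is not fixed by the first `m` powers -/
noncomputable def chkO (P p m : ℕ) : Bool := allN (fun k => !(Nat.beq (it 11 P (k + 1) p) p)) m

theorem lt_orderOf {P : ℕ} {r : Perm (Fin 1782)} (h : ∀ p : Fin 1782, (r p : ℕ) = lk 11 P p) (p : Fin 1782) {m : ℕ}
    (hc : chkO P p m = true) : m < orderOf r := by
  by_contra hlt
  have h0 : 0 < orderOf r := orderOf_pos r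
  have h1 := (allN_iff _ _).1 hc (orderOf r - 1) (by omega)
  have h2 : orderOf r - 1 + 1 = orderOf r := by omega
  rw [h2, ← pow_tab h, pow_orderOf_eq_one] at h1
  simp at h1

theorem chk16 : chkO p16 1 12 = true := by decide +kernel
theorem chk21 : chkO p21 0 10 = true := by decide +kernel
theorem chk23 : chkO p23 0 7 = true := by decide +kernel

theorem le_cent {G : Type*} [Group G] [Finite G] (g : G) : orderOf g ≤ Nat.card (centralizer ({g} : Set G)) := by
  rw [← Nat.card_zpowers]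
  refine card_le_of_le ?_
  rw [zpowers_le, mem_centralizer_singleton_iff]

/-- **All centralizers have order at least 11.** -/
theorem eleven_le (g : Suz) : 11 ≤ Nat.card (centralizer ({g} : Set Suz)) := by
  have := fin
  obtain ⟨x, hx, r, hr, htab, ⟨b, hb, hg⟩, hle⟩ := exact.1 (ψ g) ⟨g, rfl⟩
  rw [card_N, card_inf] at hle
  have ho : orderOf (ψ g) = orderOf g := orderOf_injective ψ ψ_injective g
  have ho2 : orderOf (ψ g) = orderOf r := by
    rw [hg, ← MulAut.conj_apply, MulEquiv.orderOf_eq]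
  by_cases hb : 20 ≤ x.2.1
  · have h1 : 2 * 448345497600 / (x.2.1 + 1) ≤ 2 * 448345497600 / 21 := Nat.div_le_div_left (by omega) (by norm_num)
    have h2 := hle.trans (Nat.mul_le_mul_right _ h1)
    by_contra hlt
    have h3 : Nat.card (centralizer ({g} : Set Suz)) ≤ 10 := by omega
    have h4 := h2.trans (Nat.mul_le_mul_left _ h3)
    norm_num at h4
  · have hx' : x.1 = p16 ∨ x.1 = p21 := by
      have key : ∀ y ∈ D, y.2.1 < 20 → y.1 = p16 ∨ y.1 = p21 := by
        unfold D
        intro y hy hlt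
        simp only [List.mem_cons, List.not_mem_nil, or_false] at hy
        rcases hy with rfl | rfl | rfl | rfl | rfl | rfl | rfl | rfl | rfl | rfl | rfl | rfl | rfl | rfl | rfl | rfl |
          rfl | rfl | rfl | rfl | rfl | rfl | rfl | rfl | rfl | rfl | rfl | rfl | rfl | rfl | rfl | rfl | rfl | rfl |
          rfl | rfl | rfl
        all_goals first
          | exact Or.inl rfl
          | exact Or.inr rfl
          | exact absurd hlt (by norm_num)
      exact key x hx (by omega)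
    refine le_trans ?_ (le_cent g)
    rw [← ho, ho2]
    rcases hx' with h1 | h1
    · rw [h1] at htab
      have := lt_orderOf htab 1 chk16
      omega
    · rw [h1] at htab
      exact lt_orderOf htab 0 chk21

theorem mem_D {x : ℕ × ℕ × List ℕ} {y : ℕ} (h : D[y]? = some x) : x ∈ D := List.mem_of_getElem? h

theorem m16 : (p16, 12, [416, 1, 416, 1, 416, 1, 1]) ∈ D := mem_D (y := 16) rfl
theorem m23 : (p23, 63, [432, 0, 544, 2, 432, 0, 0]) ∈ D := mem_D (y := 23) rfl

theorem exists_tab {x : ℕ × ℕ × List ℕ} (hx : x ∈ D) : ∃ g : Suz, ∀ p : Fin 1782, (ψ g p : ℕ) = lk 11 x.1 p := by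
  obtain ⟨r, ⟨g, rfl⟩, h⟩ := D_mem x hx
  exact ⟨g, h⟩

/-- the bound of the class list -/
theorem cent_A_le {x : ℕ × ℕ × List ℕ} (hx : x ∈ D) {r : Perm (Fin 1782)}
    (h : ∀ p : Fin 1782, (r p : ℕ) = lk 11 x.1 p) : Nat.card ↥(A ⊓ centralizer {r}) ≤ x.2.1 + 1 := by
  obtain ⟨l, L, h1⟩ := D_bd x hx
  refine card_le_bound (by norm_num) h h1 (inf_le_left.trans A_le_Aut) fun σ hσ p => ?_
  have h2 := mem_centralizer_singleton_iff.1 (mem_inf.1 hσ).2
  exact congrArg (fun τ : Perm (Fin 1782) => τ p) h2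

/-- **An element of order 13 with centralizer of order 13.** -/
theorem thirteen : ∃ x : Suz, orderOf x = 13 ∧ Nat.card (centralizer ({x} : Set Suz)) = 13 := by
  have := fin
  obtain ⟨g, hg⟩ := exists_tab m16
  have h1 : 12 < orderOf (ψ g) := lt_orderOf hg 1 chk16
  rw [orderOf_injective ψ ψ_injective g] at h1
  have h2 := le_cent g
  have h3 := cent_A_le m16 hg
  have h4 : Nat.card ↥(N ⊓ centralizer {ψ g}) ≤ Nat.card ↥(A ⊓ centralizer {ψ g}) :=
    card_le_of_le (inf_le_inf_right _ N_le_A)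
  rw [card_inf] at h4
  have h5 : Nat.card (centralizer ({g} : Set Suz)) ≤ 12 + 1 := h4.trans h3
  exact ⟨g, by omega, by omega⟩

/-- **An element of order 11 with centralizer of order 11.** -/
theorem eleven : ∃ x : Suz, orderOf x = 11 ∧ Nat.card (centralizer ({x} : Set Suz)) = 11 := by
  have ho : orderOf Cfsg.Agent.OddHalf.Table.SuzRep.x = 11 := Cfsg.Agent.OddHalf.Table.OutSuz.order_x
  refine ⟨Cfsg.Agent.OddHalf.Table.SuzRep.x, ho, ?_⟩
  have h : centralizer ({Cfsg.Agent.OddHalf.Table.SuzRep.x} : Set Spor.Suz) =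
      zpowers Cfsg.Agent.OddHalf.Table.SuzRep.x := by
    apply le_antisymm
    · intro c hc
      obtain ⟨i, rfl⟩ := Cfsg.Agent.OddHalf.Table.OutSuz.cent_x c (mem_centralizer_singleton_iff.1 hc)
      exact ⟨i, zpow_natCast _ _⟩
    · exact zpowers_le.2 (mem_centralizer_singleton_iff.2 rfl)
  rw [h, Nat.card_zpowers, ho]

/-! ### The element of order 8 -/

/-- word of the element conjugating `y` to `y³` -/
def g3 : List ℕ := [3, 2, 0, 1, 6, 5, 2, 3, 4, 2, 3, 1, 2, 3, 2, 1, 0, 1, 4, 3, 2, 6, 1, 0, 1, 2, 3, 5, 1, 2]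
/-- word of the element conjugating `y` to `y⁵` -/
def g5 : List ℕ := [6, 1, 2, 3, 2, 1, 0, 1, 4, 3, 2, 1, 5, 4, 3, 2, 1, 6, 4, 2, 1, 0, 1]
/-- word of `w`, where `w T` commutes with `y` -/
def wa : List ℕ := [4, 2, 3, 1, 2, 3, 1, 2, 0, 1, 6, 1, 2, 3, 2, 1, 0, 1, 4, 3, 2, 1, 0, 5, 1, 2, 3, 2, 3, 4]

theorem rel3 : allN (fun p => Nat.beq (evw 11 gens g3 (lk 11 p23 p)) (it 11 p23 3 (evw 11 gens g3 p))) 1782 = true := by
  decide +kernel
theorem rel5 : allN (fun p => Nat.beq (evw 11 gens g5 (lk 11 p23 p)) (it 11 p23 5 (evw 11 gens g5 p))) 1782 = true := by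
  decide +kernel
theorem relT : allN (fun p => Nat.beq (evw 11 gens wa (appF nT (lk 11 p23 p))) (lk 11 p23 (evw 11 gens wa (appF nT p))))
    1782 = true := by
  decide +kernel
theorem ord8 : allN (fun p => Nat.beq (it 11 p23 8 p) p) 1782 = true := by decide +kernel

theorem T_val (p : Fin 1782) : (T p : ℕ) = appF nT p := by
  rw [appF_eq]
  rfl

theorem conj_of {y : Suz} (hy : ∀ p : Fin 1782, (ψ y p : ℕ) = lk 11 p23 p) {l : List ℕ} (hl : ∀ x ∈ l, x < 7) {k : ℕ}
    (h : allN (fun p => Nat.beq (evw 11 gens l (lk 11 p23 p)) (it 11 p23 k (evw 11 gens l p))) 1782 = true) :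
    IsConj y (y ^ k) := by
  refine isConj_of_rel (g := el (l.map gn)) (ψ_injective ?_)
  rw [map_mul, map_mul, map_pow]
  ext p
  rw [Equiv.Perm.mul_apply, Equiv.Perm.mul_apply, ev_tab l hl, pow_tab hy, ev_tab l hl, hy]
  exact Nat.eq_of_beq_eq_true ((allN_iff _ _).1 h p p.2)

/-- **A rational element of order 8, centralizer of order 32.** -/
theorem eight : ∃ y : Suz, orderOf y = 8 ∧ Nat.card (centralizer ({y} : Set Suz)) = 32 ∧ IsConj y (y ^ 3) ∧
    IsConj y (y ^ 5) := by
  have := fin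
  obtain ⟨y, hy⟩ := exists_tab m23
  refine ⟨y, ?_, ?_, conj_of hy (l := g3) (by decide) rel3, conj_of hy (l := g5) (by decide) rel5⟩
  · have h1 : 7 < orderOf (ψ y) := lt_orderOf hy 0 chk23
    rw [orderOf_injective ψ ψ_injective y] at h1
    have h2 : orderOf y ∣ 8 := by
      refine orderOf_dvd_of_pow_eq_one (ψ_injective ?_)
      rw [map_pow, map_one]
      ext p
      rw [pow_tab hy]
      exact Nat.eq_of_beq_eq_true ((allN_iff _ _).1 ord8 p p.2)
    have h3 := Nat.le_of_dvd (by norm_num) h2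
    omega
  · apply le_antisymm
    · -- the outer element
      have hw : ψ (el (wa.map gn)) ∈ N := ⟨_, rfl⟩
      have ha : ψ (el (wa.map gn)) * T ∈ A ⊓ centralizer {ψ y} := by
        refine mem_inf.2 ⟨A.mul_mem (N_le_A hw) T_mem_A, ?_⟩
        rw [mem_centralizer_singleton_iff]
        ext p
        rw [Equiv.Perm.mul_apply, Equiv.Perm.mul_apply, Equiv.Perm.mul_apply, Equiv.Perm.mul_apply,
          ev_tab wa (by decide), T_val, hy, hy, ev_tab wa (by decide), T_val]
        exact Nat.eq_of_beq_eq_true ((allN_iff _ _).1 relT p p.2)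
      have ha' : ψ (el (wa.map gn)) * T ∉ N ⊓ centralizer {ψ y} := by
        intro h
        have h1 := (mem_inf.1 h).1
        rw [N.mul_mem_cancel_left hw] at h1
        exact T_notMem h1
      have h1 := card_le_half (H := N ⊓ centralizer {ψ y}) (C := A ⊓ centralizer {ψ y}) (m := 32)
        (inf_le_inf_right _ N_le_A) ha ha' (cent_A_le m23 hy) inferInstance
      rwa [card_inf] at h1
    · have h1 := exact.2 _ m23 (ψ y) ⟨y, rfl⟩ hy
      rw [card_N, card_inf] at h1
      by_contra hlt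
      have h2 : Nat.card (centralizer ({y} : Set Suz)) ≤ 31 := by omega
      have h3 := h1.trans (Nat.mul_le_mul_left _ h2)
      norm_num at h3

end Cfsg.Agent.H257.OZ.SuzF
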